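import Groth.Agent.Lib.FinPres16.HomLocal
import Groth.Agent.Lib.SiteCoh.CechFamily
import Groth.Agent.Lib.ExtColim.Basic
import Mathlib.CategoryTheory.Limits.Constructions.Over.Products

/-! Cohomology on a class of objects with finite cofinal coverings commutes with filtered colimits. -/

set_option autoImplicit false
set_option linter.style.haveILetI false
set_option linter.unusedSectionVars false
set_option backward.isDefEq.respectTransparency false
set_option backward.isDefEq.respectTransparency.types false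

universe u

open CategoryTheory CategoryTheory.Limits Opposite

noncomputable section

namespace Groth.Agent.CohColim16

open SiteCoh
open Simplicial

variable {C : Type u} [SmallCategory C] [HasPullbacks C] {J : GrothendieckTopology C} (B : Set C)
  (Cov : ∀ (U : C) (ι : Type u), (ι → Over U) → Prop)
  (h1 : ∀ (U : C) (ι : Type u) (Y : ι → Over U), Cov U ι Y → Finite ι ∧ U ∈ B ∧
      Sieve.ofArrows (fun i => (Y i).left) (fun i => (Y i).hom) ∈ J U ∧
      ∀ (p : ℕ) (a : Fin (p + 1) → ι), (∏ᶜ fun k => Y (a k)).left ∈ B)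
  (h2 : ∀ U ∈ B, ∀ T ∈ J U, ∃ (ι : Type u) (Y : ι → Over U), Cov U ι Y ∧ ∀ i, T.arrows (Y i).hom)

variable {I : Type u} [SmallCategory I] [IsFiltered I] (D : I ⥤ Sheaf J AddCommGrpCat.{u})

/-- A section at a stage in the colimit. -/
abbrev ιapp (i : I) (V : C) : (D.obj i).obj.obj (op V) ⟶ (colimit D).obj.obj (op V) :=
  (colimit.ι D i).hom.app (op V)

theorem app_comp' {A A' A'' : Sheaf J AddCommGrpCat.{u}} (f : A ⟶ A') (g : A' ⟶ A'') (V : C) (t : A.obj.obj (op V)) :
    (f ≫ g).hom.app (op V) t = g.hom.app (op V) (f.hom.app (op V) t) := rfl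

theorem ιapp_map {i j : I} (f : i ⟶ j) (V : C) (t : (D.obj i).obj.obj (op V)) :
    ιapp D j V ((D.map f).hom.app (op V) t) = ιapp D i V t :=
  congrArg (fun q : D.obj i ⟶ colimit D => q.hom.app (op V) t) (colimit.w D f)

theorem map_map_stage {i j k : I} (f : i ⟶ j) (g : j ⟶ k) (V : C) (t : (D.obj i).obj.obj (op V)) :
    (D.map (f ≫ g)).hom.app (op V) t = (D.map g).hom.app (op V) ((D.map f).hom.app (op V) t) := by
  rw [Functor.map_comp]
  rfl

theorem eq_of_cover (G : Sheaf J AddCommGrpCat.{u}) {U : C} {ι : Type u} (Yf : ι → Over U)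
    (hY : Sieve.ofArrows (fun i => (Yf i).left) (fun i => (Yf i).hom) ∈ J U) (a b : G.obj.obj (op U))
    (h : ∀ k, G.obj.map (Yf k).hom.op a = G.obj.map (Yf k).hom.op b) : a = b := by
  refine (((isSheaf_iff_isSheaf_of_type J _).1
    ((Presheaf.isSheaf_iff_isSheaf_forget J G.obj (CategoryTheory.forget AddCommGrpCat.{u})).1 G.property)) _ hY).isSeparatedFor.ext ?_
  intro V g hg
  obtain ⟨Z, c, g', hg', rfl⟩ := hg
  obtain ⟨k⟩ := hg'
  show G.obj.map (c ≫ (Yf k).hom).op a = G.obj.map (c ≫ (Yf k).hom).op b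
  rw [op_comp, G.obj.map_comp, ConcreteCategory.comp_apply, ConcreteCategory.comp_apply, h]

include h1 h2 in
theorem exists_zero {V : C} (hV : V ∈ B) {i : I} (t : (D.obj i).obj.obj (op V)) (ht : ιapp D i V t = 0) :
    ∃ (j : I) (f : i ⟶ j), (D.map f).hom.app (op V) t = 0 := by
  obtain ⟨S, hS, hs⟩ := FinPres16.exists_stage_eq (colimit.isColimit D) t 0
    (ht.trans (map_zero (ιapp D i V).hom).symm)
  obtain ⟨ι, Y, hY, hT⟩ := h2 V hV S hS
  obtain ⟨hfin, -, hcov, -⟩ := h1 _ _ _ hY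
  haveI := hfin
  choose k f hf using fun a => hs (Y a).hom (hT a)
  obtain ⟨j, g, p, hg⟩ := FinPres16.exists_upper_maps k f
  refine ⟨j, p, eq_of_cover (D.obj j) Y hcov _ _ fun a => ?_⟩
  refine (NatTrans.naturality_apply (D.map p).hom (Y a).hom.op t).symm.trans ?_
  rw [← hg a, map_map_stage, hf a, map_zero, map_zero, map_zero, map_zero]

theorem exists_upper_objs {ι : Type*} [Finite ι] (l : ι → I) : ∃ k, ∀ a, Nonempty (l a ⟶ k) :=
  FinPres16.exists_upper l

theorem exists_stage_pairs {P : Type*} [Finite P] {i : I} (V : P → C) (hV : ∀ p, V p ∈ B)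
    (t : ∀ p, (D.obj i).obj.obj (op (V p)))
    (hz : ∀ {W : C}, W ∈ B → ∀ {i : I} (t : (D.obj i).obj.obj (op W)), ιapp D i W t = 0 →
      ∃ (j : I) (f : i ⟶ j), (D.map f).hom.app (op W) t = 0)
    (ht : ∀ p, ιapp D i (V p) (t p) = 0) :
    ∃ (j : I) (f : i ⟶ j), ∀ p, (D.map f).hom.app (op (V p)) (t p) = 0 := by
  choose k f hf using fun p => hz (hV p) (t p) (ht p)
  obtain ⟨j, g, q, hg⟩ := FinPres16.exists_upper_maps k f
  exact ⟨j, q, fun p => by rw [← hg p, map_map_stage, hf p, map_zero]⟩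

include h1 h2 in
theorem exists_rep {U : C} (hU : U ∈ B) (s : (colimit D).obj.obj (op U)) :
    ∃ (i : I) (t : (D.obj i).obj.obj (op U)), ιapp D i U t = s := by
  obtain ⟨S, hS, hs⟩ := FinPres16.exists_stage_rep (colimit.isColimit D) s
  obtain ⟨ι, Y, hY, hT⟩ := h2 U hU S hS
  obtain ⟨hfin, -, hcov, hprod⟩ := h1 _ _ _ hY
  haveI := hfin
  choose l t ht using fun a => hs (Y a).hom (hT a)
  obtain ⟨m, hm⟩ := FinPres16.exists_upper l
  let u : ∀ a, (D.obj m).obj.obj (op (Y a).left) := fun a => (D.map (hm a).some).hom.app (op (Y a).left) (t a)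
  have hu : ∀ a, ιapp D m (Y a).left (u a) = (colimit D).obj.map (Y a).hom.op s := fun a =>
    (ιapp_map D _ _ _).trans (ht a)
  let P : ι × ι → Over U := fun ab => ∏ᶜ fun k : Fin (1 + 1) => Y (![ab.1, ab.2] k)
  let pr₀ : ∀ (ab : ι × ι), P ab ⟶ Y ab.1 := fun ab => Pi.π (fun k : Fin (1 + 1) => Y (![ab.1, ab.2] k)) 0
  let pr₁ : ∀ (ab : ι × ι), P ab ⟶ Y ab.2 := fun ab => Pi.π (fun k : Fin (1 + 1) => Y (![ab.1, ab.2] k)) 1
  obtain ⟨j, q, hq⟩ := exists_stage_pairs B D (fun ab : ι × ι => (P ab).left) (fun ab => hprod 1 _)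
    (fun ab => (D.obj m).obj.map (pr₀ ab).left.op (u ab.1) - (D.obj m).obj.map (pr₁ ab).left.op (u ab.2))
    (fun {W} hW {i'} t' ht' => exists_zero B Cov h1 h2 D hW t' ht') fun ab => by
      rw [map_sub, sub_eq_zero]
      refine (NatTrans.naturality_apply (colimit.ι D m).hom (pr₀ ab).left.op (u ab.1)).trans (Eq.trans ?_
        (NatTrans.naturality_apply (colimit.ι D m).hom (pr₁ ab).left.op (u ab.2)).symm)
      refine (congrArg ((colimit D).obj.map (pr₀ ab).left.op) (hu ab.1)).trans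
        (Eq.trans ?_ (congrArg ((colimit D).obj.map (pr₁ ab).left.op) (hu ab.2)).symm)
      rw [← ConcreteCategory.comp_apply, ← ConcreteCategory.comp_apply, ← Functor.map_comp, ← Functor.map_comp,
        ← op_comp, ← op_comp]
      exact congrArg (fun h => (colimit D).obj.map h.op s) ((Over.w (pr₀ ab)).trans (Over.w (pr₁ ab)).symm)
  have hc : Presieve.Arrows.Compatible ((D.obj j).obj ⋙ CategoryTheory.forget AddCommGrpCat.{u})
      (fun a => (Y a).hom) (fun a => (D.map q).hom.app (op (Y a).left) (u a)) := by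
    intro a b Z g₁ g₂ hg
    let G : ∀ k : Fin (1 + 1), Over.mk (g₁ ≫ (Y a).hom) ⟶ Y (![a, b] k) :=
      Fin.cons (Over.homMk g₁) (Fin.cons (Over.homMk g₂ hg.symm) finZeroElim)
    let l := Pi.lift G
    have h0 : (l.left ≫ (pr₀ (a, b)).left) = g₁ := congrArg CommaMorphism.left (Pi.lift_π G 0)
    have h1' : (l.left ≫ (pr₁ (a, b)).left) = g₂ := congrArg CommaMorphism.left (Pi.lift_π G 1)
    have hd := hq (a, b)
    rw [map_sub, sub_eq_zero] at hd
    have hd' := congrArg ((D.obj j).obj.map l.left.op) hd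
    have key : ∀ (c : ι) (p : (P (a, b)).left ⟶ (Y c).left),
        (D.obj j).obj.map l.left.op ((D.map q).hom.app _ ((D.obj m).obj.map p.op (u c))) =
          (D.obj j).obj.map (l.left ≫ p).op ((D.map q).hom.app (op (Y c).left) (u c)) := fun c p => by
      rw [op_comp, Functor.map_comp, ConcreteCategory.comp_apply]
      exact congrArg ((D.obj j).obj.map l.left.op) (NatTrans.naturality_apply (D.map q).hom p.op (u c))
    have hd'' := ((key a (pr₀ (a, b)).left).symm.trans hd').trans (key b (pr₁ (a, b)).left)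
    rw [h0, h1'] at hd''
    exact hd''
  have hsh : Presieve.IsSheafFor ((D.obj j).obj ⋙ CategoryTheory.forget AddCommGrpCat.{u})
      (Presieve.ofArrows (fun a => (Y a).left) (fun a => (Y a).hom)) := by
    rw [Presieve.isSheafFor_iff_generate]
    exact ((isSheaf_iff_isSheaf_of_type J _).1
      ((Presheaf.isSheaf_iff_isSheaf_forget J (D.obj j).obj (CategoryTheory.forget AddCommGrpCat.{u})).1 (D.obj j).property)) _ hcov
  obtain ⟨w, hw, -⟩ := (Presieve.isSheafFor_arrows_iff _ _).1 hsh _ hc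
  refine ⟨j, w, eq_of_cover (colimit D) Y hcov _ _ fun a => ?_⟩
  refine (NatTrans.naturality_apply (colimit.ι D j).hom (Y a).hom.op w).symm.trans ?_
  exact (congrArg (ιapp D j (Y a).left) (hw a)).trans ((ιapp_map D q _ _).trans (hu a))

variable {U : C}

theorem famVal_comp {G H : Sheaf J AddCommGrpCat.{u}} (E : FormalCoproduct.{u} (Over U))
    (φ : (frP J).obj ((psh (C := C) (U := U)).obj E) ⟶ G) (f : G ⟶ H) (e : E.I) :
    famVal E (φ ≫ f) e = f.hom.app _ (famVal E φ e) := by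
  unfold famVal
  rw [Adjunction.homEquiv_naturality_right]
  rfl

theorem hom_ext_famVal {G : Sheaf J AddCommGrpCat.{u}} (E : FormalCoproduct.{u} (Over U))
    (φ φ' : (frP J).obj ((psh (C := C) (U := U)).obj E) ⟶ G) (h : ∀ e, famVal E φ e = famVal E φ' e) : φ = φ' :=
  (bijective_famElt E).1 (pi_ext fun e => by rw [π_famElt, π_famElt, h e])

theorem exists_hom_famVal {G : Sheaf J AddCommGrpCat.{u}} (E : FormalCoproduct.{u} (Over U))
    (t : ∀ e : E.I, G.obj.obj (op (E.obj e).left)) :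
    ∃ φ : (frP J).obj ((psh (C := C) (U := U)).obj E) ⟶ G, ∀ e, famVal E φ e = t e := by
  obtain ⟨x, hx⟩ := exists_pi (G := fun i => ((Over.forget U).op ⋙ G.obj).obj (op (E.obj i))) t
  obtain ⟨φ, hφ⟩ := (bijective_famElt E).2 x
  exact ⟨φ, fun e => (π_famElt E φ e).symm.trans ((congrArg _ hφ).trans (hx e))⟩

include h1 h2 in
theorem hom_fam (E : FormalCoproduct.{u} (Over U)) [Finite E.I] (hE : ∀ e, (E.obj e).left ∈ B) :
    (∀ x : (frP J).obj ((psh (C := C) (U := U)).obj E) ⟶ colimit D,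
      ∃ (i : I) (y : (frP J).obj ((psh (C := C) (U := U)).obj E) ⟶ D.obj i), y ≫ colimit.ι D i = x) ∧
      ∀ (i : I) (y : (frP J).obj ((psh (C := C) (U := U)).obj E) ⟶ D.obj i), y ≫ colimit.ι D i = 0 →
        ∃ (j : I) (f : i ⟶ j), y ≫ D.map f = 0 := by
  refine ⟨fun x => ?_, fun i y hy => ?_⟩
  · choose l t ht using fun e => exists_rep B Cov h1 h2 D (hE e) (famVal E x e)
    obtain ⟨m, hm⟩ := FinPres16.exists_upper l
    obtain ⟨y, hy⟩ := exists_hom_famVal (G := D.obj m) E fun e => (D.map (hm e).some).hom.app _ (t e)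
    refine ⟨m, y, hom_ext_famVal E _ _ fun e => ?_⟩
    rw [famVal_comp, hy]
    exact (ιapp_map D _ _ _).trans (ht e)
  · obtain ⟨j, f, hf⟩ := exists_stage_pairs B D (fun e => (E.obj e).left) hE (famVal E y)
      (fun {W} hW {i'} t' ht' => exists_zero B Cov h1 h2 D hW t' ht') fun e => by
        refine (famVal_comp E y (colimit.ι D i) e).symm.trans ?_
        rw [hy]
        exact (π_famElt E 0 e).symm.trans ((congrArg _ (map_zero (famElt E))).trans (map_zero _))
    refine ⟨j, f, hom_ext_famVal E _ _ fun e => ?_⟩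
    rw [famVal_comp, hf e]
    exact ((π_famElt E 0 e).symm.trans ((congrArg _ (map_zero (famElt E))).trans (map_zero _))).symm

include h1 h2 in
theorem homExactAt_colimit (hD : ∀ i, ∀ (U : C) (ι : Type u) (Y : ι → Over U), Cov U ι Y → ∀ p,
      HomExactAt (famCx Y J) (D.obj i) p)
    (U : C) (ι : Type u) (Y : ι → Over U) (hY : Cov U ι Y) (q : ℕ) : HomExactAt (famCx Y J) (colimit D) q := by
  obtain ⟨hfin, -, -, hprod⟩ := h1 _ _ _ hY
  haveI := hfin
  have hh : ∀ n : ℕ, _ ∧ _ := fun n =>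
    haveI : Finite ((famObj Y).power (ToType (⦋n⦌ : SimplexCategory))).I := inferInstanceAs (Finite (Fin (n + 1) → ι))
    hom_fam B Cov h1 h2 D ((famObj Y).power (ToType (⦋n⦌ : SimplexCategory))) fun a => hprod n a
  intro x hx
  obtain ⟨i, y, hy⟩ := (hh (q + 1)).1 x
  obtain ⟨j, g, hg⟩ := (hh (q + 2)).2 i ((famCx Y J).d (q + 2) (q + 1) ≫ y)
    ((Category.assoc _ _ _).trans ((congrArg _ hy).trans hx))
  obtain ⟨z, hz⟩ := hD j U ι Y hY q (y ≫ D.map g) ((Category.assoc _ _ _).symm.trans hg)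
  refine ⟨z ≫ colimit.ι D j, ?_⟩
  rw [← Category.assoc, hz, Category.assoc, colimit.w]
  exact hy

end Groth.Agent.CohColim16

namespace Groth.Agent.CohColim16

open SiteCoh Abelian

variable {C : Type u} [SmallCategory C] [HasPullbacks C] {J : GrothendieckTopology C} (B : Set C)
  (Cov : ∀ (U : C) (ι : Type u), (ι → Over U) → Prop)
  (h1 : ∀ (U : C) (ι : Type u) (Y : ι → Over U), Cov U ι Y → Finite ι ∧ U ∈ B ∧
      Sieve.ofArrows (fun i => (Y i).left) (fun i => (Y i).hom) ∈ J U ∧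
      ∀ (p : ℕ) (a : Fin (p + 1) → ι), (∏ᶜ fun k => Y (a k)).left ∈ B)
  (h2 : ∀ U ∈ B, ∀ T ∈ J U, ∃ (ι : Type u) (Y : ι → Over U), Cov U ι Y ∧ ∀ i, T.arrows (Y i).hom)
  {I : Type u} [SmallCategory I] [IsFiltered I]

include h1 h2 in
theorem preservesColimit_cohomology {U : C} (hU : U ∈ B) (p : ℕ) (F : I ⥤ Sheaf J AddCommGrpCat.{u}) :
    PreservesColimit F ((Sheaf.cohomologyPresheafFunctor J p).flip.obj (op U)) := by
  let M := (frP J).obj (yoneda.obj U)
  have h₀ : ∀ D : I ⥤ Sheaf J AddCommGrpCat.{u}, ExtColim.Surj M 0 D ∧ ExtColim.Inj M 0 D := by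
    intro D
    let e : ∀ G : Sheaf J AddCommGrpCat.{u}, (M ⟶ G) ≃ G.obj.obj (op U) := fun G =>
      ((frAdj J).homEquiv _ _).trans yonedaEquiv
    have he : ∀ {G H : Sheaf J AddCommGrpCat.{u}} (y : M ⟶ G) (f : G ⟶ H), e H (y ≫ f) = f.hom.app (op U) (e G y) := by
      intro G H y f
      show yonedaEquiv ((frAdj J).homEquiv _ _ (y ≫ f)) = _
      rw [Adjunction.homEquiv_naturality_right]
      rfl
    refine ⟨ExtColim.surj_zero fun x => ?_, ExtColim.inj_zero fun i y hy => ?_⟩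
    · obtain ⟨i, t, ht⟩ := exists_rep B Cov h1 h2 D hU (e _ x)
      exact ⟨i, (e _).symm t, (e _).injective (by rw [he, Equiv.apply_symm_apply]; exact ht)⟩
    · have hz : ∀ G : Sheaf J AddCommGrpCat.{u}, e G 0 = 0 := fun G => by
        have h := he (0 : M ⟶ G) (0 : G ⟶ G)
        rw [comp_zero] at h
        exact h
      obtain ⟨j, f, hf⟩ := exists_zero B Cov h1 h2 D hU (e _ y) ((he y _).symm.trans ((congrArg _ hy).trans (hz _)))
      exact ⟨j, f, (e _).injective ((he y _).trans (hf.trans (hz _).symm))⟩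
  have hv : ∀ D : I ⥤ Sheaf J AddCommGrpCat.{u}, (∀ i, Injective (D.obj i)) → ∀ q,
      Subsingleton (Ext M (colimit D) (q + 1)) := fun D hD q =>
    subsingleton_HU_of_cech B Cov (fun V ι Y hY => (h1 V ι Y hY).2) h2 q (colimit D)
      (fun V ι Y hY r => homExactAt_colimit B Cov h1 h2 D
        (fun i V' ι' Y' _ r' => haveI := hD i; homExactAt_fam_injective Y' (D.obj i) r') V ι Y hY r) U hU
  exact ExtColim.preservesColimit_extFunctor (ExtColim.surj_and_inj M h₀ hv p F).1
    (ExtColim.surj_and_inj M h₀ hv p F).2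

end Groth.Agent.CohColim16
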